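import Groth.Agent.AmpleLib.Counit
import Groth.Agent.AmpleLib.CompLemma
import Groth.Agent.LimTop.PullSys

/-!
# Generation relative to a morphism, through loci of sections, and lifting of sections to stages
-/

set_option autoImplicit false

universe u

open CategoryTheory Limits AlgebraicGeometry Opposite TopologicalSpace

noncomputable section

namespace Groth.Agent.RelGenStage

open Groth.Agent.QCoh Groth.Agent.Props.GenLocus Groth.Agent.Props.GenTensor Groth.Agent.Props.GenProd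
open Groth.Agent.PullStalk.Sky Groth.Agent.AmpleLib

variable {X Y : Scheme.{u}}

lemma germM_res' (M : X.Modules) {U V : X.Opens} (h : V ≤ U) (m : Γ(M, U)) (x : X) (hx : x ∈ V) :
    germM M V x hx (res M h m) = germM M U x (h hx) m :=
  M.presheaf.germ_res_apply (homOfLE h) x hx m

/-- `M` is generated relative to `f`: near every point some section over the preimage of an open of
the base generates. -/
theorem epi_counit_of_locus (f : X ⟶ Y) {M : X.Modules}
    (h : ∀ x : X, ∃ (V : Y.Opens) (_ : f x ∈ V) (τ : Γ(M, f ⁻¹ᵁ V)), x ∈ locus τ) :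
    Epi ((Scheme.Modules.pullbackPushforwardAdjunction f).counit.app M) := by
  refine epi_counit_of_spanAt f fun x => ?_
  obtain ⟨V, hx, τ, hτ⟩ := h x
  refine ⟨V, hx, fun W hxW m => ?_⟩
  obtain ⟨a, ha, -⟩ := ((isGen_locus τ).restrict (inf_le_left : locus τ ⊓ W ≤ _)).exists_eq le_rfl
    (res M (inf_le_right : locus τ ⊓ W ≤ W) m)
  rw [res_self, res_res] at ha
  have e := congrArg (germM M (locus τ ⊓ W) x ⟨hτ, hxW⟩) ha
  rw [germM_res', germM_smul, germM_res'] at e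
  rw [e]
  exact Submodule.smul_mem _ _ (Submodule.subset_span ⟨τ, rfl⟩)

theorem exists_locus_of_epi_counit (f : X ⟶ Y) [QuasiCompact f] [QuasiSeparated f] {M : X.Modules}
    (hM : PicF.IsInvertible M)
    (h : Epi ((Scheme.Modules.pullbackPushforwardAdjunction f).counit.app M))
    {V : Y.Opens} (hV : IsAffineOpen V) {x : X} (hx : f x ∈ V) :
    ∃ τ : Γ(M, f ⁻¹ᵁ V), x ∈ locus τ :=
  exists_locus_mem hM (O := f ⁻¹ᵁ V) hx fun W hxW m =>
    spanAt_eq_top_of_epi f (ProjTwist.isQCoh_of_isInvertible hM) h hV hx hxW m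

theorem locus_unitSec (g : X ⟶ Y) {M : Y.Modules} (hM : PicF.IsInvertible M) {U : Y.Opens}
    {W : X.Opens} (h : W ≤ g ⁻¹ᵁ U) (m : Γ(M, U)) :
    locus (LimTop.unitSec g M h m) = g ⁻¹ᵁ locus m ⊓ W := by
  show locus (res ((Scheme.Modules.pullback g).obj M) h (LFFrame.unitSec g M U m)) = _
  rw [locus_res, locus_pb g hM]

variable {J : Type u} [SmallCategory J] [IsFiltered J] {N : J ⥤ X.Modules} {s : Cocone N}

/-- Sections over quasi-compact opens lift to a stage. -/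
theorem exists_lift_qc [QuasiSeparatedSpace X] (h : LimTop.SysColim s) {V : X.Opens}
    (hV : IsCompact (V : Set X)) (t : Γ(s.pt, V)) :
    ∃ (j : J) (t' : Γ(N.obj j, V)), (s.ι.app j).app V t' = t := by
  obtain ⟨T, hT, e⟩ := isCompact_iff_finite_and_eq_biUnion_affineOpens.mp hV
  have hle (i : T) : i.1.1 ≤ V := e ▸ le_iSup₂_of_le i.1 i.2 le_rfl
  have hcov : V ≤ ⨆ i : T, i.1.1 := by
    rw [e]
    exact iSup₂_le fun i hi => le_iSup (fun i : T => i.1.1) ⟨i, hi⟩
  have := hT.to_subtype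
  choose j t' ht' using fun i : T => h.surj i.1.1 i.1.2 (res s.pt (hle i) t)
  classical
  haveI := Fintype.ofFinite T
  obtain ⟨K, hK⟩ := IsFiltered.sup_objs_exists (Finset.univ.image j)
  let a : ∀ i : T, j i ⟶ K := fun i =>
    (hK (Finset.mem_image_of_mem j (Finset.mem_univ i))).some
  obtain ⟨t₁, ht₁⟩ : ∃ t₁ : ∀ i : T, Γ(N.obj K, i.1.1),
      ∀ i, (s.ι.app K).app _ (t₁ i) = res s.pt (hle i) t :=
    ⟨fun i => (N.map (a i)).app _ (t' i), fun i => (LimTop.ι_app_map (a i) (t' i)).trans (ht' i)⟩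
  have hd : ∀ p : T × T, ∃ (k : J) (b : K ⟶ k), (N.map b).app _
      (res (N.obj K) (inf_le_left : p.1.1.1 ⊓ p.2.1.1 ≤ _) (t₁ p.1) -
        res (N.obj K) (inf_le_right : p.1.1.1 ⊓ p.2.1.1 ≤ _) (t₁ p.2)) = 0 := fun p => by
    refine h.exists_zero ?_ _ ?_
    · exact QuasiSeparatedSpace.inter_isCompact _ _ p.1.1.1.2 p.1.1.2.isCompact p.2.1.1.2
        p.2.1.2.isCompact
    · rw [map_sub, app_res, app_res, ht₁, ht₁, sub_eq_zero]
      exact (res_res s.pt _ _ t).trans (res_res s.pt _ _ t).symm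
  choose k b hb using hd
  obtain ⟨L, f, g, hg⟩ := IsFiltered.wideSpan b
  obtain ⟨r, hr⟩ := exists_glue (N.obj L) hle hcov (fun i => (N.map f).app _ (t₁ i)) fun i i' => by
    rw [← app_res, ← app_res, ← sub_eq_zero, ← map_sub, ← hg (i, i'), LimTop.map_app_comp, hb,
      map_zero]
  refine ⟨L, r, eq_of_locally_eq s.pt hle hcov _ _ fun i => ?_⟩
  rw [← app_res, hr, LimTop.ι_app_map, ht₁]

/-- An open of a limit containing the whole preimage contains it at a stage. -/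
theorem exists_stage_sections {I : Type u} [SmallCategory I] [IsCofiltered I] {D : I ⥤ Scheme.{u}}
    {c : Cone D} (hc : IsLimit c) [∀ (i j : I) (f : i ⟶ j), IsAffineHom (D.map f)] {i₀ : I}
    [CompactSpace (D.obj i₀)] [QuasiSeparatedSpace (D.obj i₀)]
    {G : (D.obj i₀).Modules} (hG : PicF.IsInvertible G) {W : (D.obj i₀).Opens}
    (hW : IsCompact (W : Set (D.obj i₀)))
    (hgen : ∀ x : c.pt, c.π.app i₀ x ∈ W →
      ∃ τ : Γ((Scheme.Modules.pullback (c.π.app i₀)).obj G, c.π.app i₀ ⁻¹ᵁ W), x ∈ locus τ) :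
    ∃ (j : I) (φ : j ⟶ i₀), ∀ (Z : Scheme.{u}) (r : Z ⟶ D.obj j) (z : Z), (r ≫ D.map φ) z ∈ W →
      ∃ τ : Γ((Scheme.Modules.pullback (r ≫ D.map φ)).obj G, (r ≫ D.map φ) ⁻¹ᵁ W), z ∈ locus τ := by
  classical
  haveI : G.IsQuasicoherent := ProjTwist.isQCoh_of_isInvertible hG
  haveI : IsAffineHom (c.π.app i₀) := isAffineHom_π_app D c hc i₀
  have hcp : IsCompact ((c.π.app i₀ ⁻¹ᵁ W : c.pt.Opens) : Set c.pt) :=
    (c.π.app i₀).isCompact_preimage hW
  choose τ hτ using fun x : ↥(c.π.app i₀ ⁻¹ᵁ W) => hgen x.1 x.2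
  obtain ⟨T, hT⟩ := hcp.elim_finite_subcover (fun x => ((locus (τ x) : c.pt.Opens) : Set c.pt))
    (fun x => (locus (τ x)).2) fun x hx => Set.mem_iUnion.2 ⟨⟨x, hx⟩, hτ ⟨x, hx⟩⟩
  have hsys := LimTop.sysColim_pullSys (i₀ := i₀) hc G
  choose j t' ht' using fun x : ↥T => exists_lift_qc hsys hW
    (show Γ((LimTop.pullCocone (i₀ := i₀) c hc G).pt, W) from τ x.1)
  obtain ⟨K, hK⟩ := IsFiltered.sup_objs_exists (Finset.univ.image j)
  let a : ∀ x : ↥T, j x ⟶ K := fun x => (hK (Finset.mem_image_of_mem j (Finset.mem_univ x))).some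
  let σ : ∀ x : ↥T, Γ((Scheme.Modules.pullback (D.map K.unop.hom)).obj G, D.map K.unop.hom ⁻¹ᵁ W) :=
    fun x => ((LimTop.pullSys G).map (a x)).app W (t' x)
  have hι : ∀ x : ↥T, LimTop.transSec (c.π.app K.unop.left) (D.map K.unop.hom) (c.w K.unop.hom) G
      (LimTop.preimage_le _ _ (c.w K.unop.hom)) (σ x) = τ x.1 := fun x =>
    (LimTop.ι_app_map (s := LimTop.pullCocone (i₀ := i₀) c hc G) (a x) (t' x)).trans (ht' x)
  have hK' : PicF.IsInvertible ((Scheme.Modules.pullback (D.map K.unop.hom)).obj G) :=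
    PicCl.isInvertible_pullback _ hG
  have hloc : ∀ x : ↥T, locus (τ x.1) ≤ c.π.app K.unop.left ⁻¹ᵁ locus (σ x) := fun x => by
    rw [← hι x, LimTop.transSec_apply, locus_app_iso, locus_unitSec _ hK']
    exact inf_le_left
  haveI : CompactSpace (D.obj K.unop.left) :=
    QuasiCompact.compactSpace_of_compactSpace (D.map K.unop.hom)
  haveI : QuasiSeparatedSpace (D.obj K.unop.left) :=
    quasiSeparatedSpace_of_quasiSeparated (D.map K.unop.hom)
  obtain ⟨l, ψ, hl⟩ := exists_map_preimage_le_map_preimage D c hc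
    (U := D.map K.unop.hom ⁻¹ᵁ W) (V := ⨆ x : ↥T, locus (σ x))
    ((D.map K.unop.hom).isCompact_preimage hW) (by
      intro z hz
      have hz' : c.π.app i₀ z ∈ W := by
        rw [← c.w K.unop.hom, Scheme.Hom.comp_apply]
        exact hz
      obtain ⟨x, hxT, hzx⟩ := Set.mem_iUnion₂.1 (hT hz')
      exact Opens.mem_iSup.2 ⟨⟨x, hxT⟩, hloc ⟨x, hxT⟩ hzx⟩)
  refine ⟨l, ψ ≫ K.unop.hom, fun Z r z hz => ?_⟩
  have e : (r ≫ D.map ψ) ≫ D.map K.unop.hom = r ≫ D.map (ψ ≫ K.unop.hom) := by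
    rw [Category.assoc, ← D.map_comp]
  obtain ⟨x, hx⟩ := Opens.mem_iSup.1 (hl (show r z ∈ D.map ψ ⁻¹ᵁ (D.map K.unop.hom ⁻¹ᵁ W) by
    show D.map K.unop.hom (D.map ψ (r z)) ∈ W
    rw [← Scheme.Hom.comp_apply, ← D.map_comp, ← Scheme.Hom.comp_apply]
    exact hz))
  refine ⟨LimTop.transSec (r ≫ D.map ψ) (D.map K.unop.hom) e G (LimTop.preimage_le _ _ e) (σ x), ?_⟩
  rw [LimTop.transSec_apply, locus_app_iso, locus_unitSec _ hK']
  exact ⟨hx, hz⟩

end Groth.Agent.RelGenStage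

end
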